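import Mathlib
import Cfsg.Agent.WTI.ModB
import Cfsg.Agent.Rec.L52.Final
import Cfsg.Agent.GT.PGroupElemAb

/-! WTI: points of order sixteen with all hyperplanes axes (PLAN §15). -/

set_option autoImplicit false
set_option linter.unusedSectionVars false

namespace Cfsg.Agent.WTI

open Cfsg Cfsg.Agent.GT Cfsg.Agent.Loc.Mss Subgroup
open scoped commutatorElement

variable {G : Type*} [Group G] [Finite G] {S : Set (Subgroup G)}
  {A B B' C C' E F H P U X Y : Subgroup G} {a a' b c d e g h k n r s t w x y : G}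

namespace V5

open Cfsg.Agent.Rec Cfsg.Agent.Rec.L52 Cfsg.Agent.Spor

/-- Coordinates on a point. -/
abbrev V : Type := Fin 4 → ZMod 2

/-- The standard basis. -/
def ev (i : Fin 4) : V := fun k => if k = i then 1 else 0

/-- The elementary transvections. -/
def tr (i j : Fin 4) (v : V) : V := v + v j • ev i

theorem d_split : ∀ (j : Fin 4) (v : V), v j = 0 ∨ v j = 1 ∧ ev j + (v + ev j) = v ∧
    (v + ev j) j = 0 := by decide +kernel

theorem d_norm : ∀ (j k l : Fin 4) (v : V), k ≠ j → v j = 0 → tr k l v j = 0 := by decide +kernel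

theorem d_st : ∀ i j k l : Fin 4, i ≠ j → k ≠ l → k ≠ j →
    tr k l (tr k l (ev j) j • ev i) = ev i + if l = i then ev k else 0 := by decide +kernel

theorem d_ev : ∀ i k l : Fin 4, tr k l (ev i) = ev i + if l = i then ev k else 0 := by
  decide +kernel

theorem d_cube : ∀ i j : Fin 4, i ≠ j → ∀ v, tr i j (tr j i (tr i j (tr j i (tr i j (tr j i v))))) =
    v := by decide +kernel

theorem d_fix : ∀ i j : Fin 4, i ≠ j → ∀ u : V, (∀ k, i ≠ k → j ≠ k → u k = 0) →
    tr i j (tr j i u) = u → u = 0 := by decide +kernel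

theorem d_ne : ∀ v : V, v ≠ 0 → ∃ j, v j ≠ 0 ∧ (ev j + if j = 0 then 0 else ev 0) j ≠ 0 ∧
    (ev j + if j = 0 then 0 else ev 0) 0 ≠ 0 := by decide +kernel

theorem d_end : ∀ v : V, ev 1 + v 3 • ev 2 ≠ 0 := by decide +kernel

/-- Triples which extend the first basis vector to a basis. -/
def Ind (p : V × V × V) : Prop :=
  p.1 ∉ [0, ev 0] ∧ p.2.1 ∉ [0, ev 0, p.1, ev 0 + p.1] ∧
    p.2.2 ∉ [0, ev 0, p.1, ev 0 + p.1, p.2.1, ev 0 + p.2.1, p.1 + p.2.1, ev 0 + (p.1 + p.2.1)]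

instance instDecInd (p : V × V × V) : Decidable (Ind p) := by unfold Ind; infer_instance

theorem d_card : (Finset.univ.filter Ind).card = 1344 := by decide +kernel

theorem d_ind : Ind (ev 1, ev 2, ev 3) := by decide +kernel

theorem d_span : ∀ v : V, v ∈ [0, ev 0, ev 1, ev 0 + ev 1, ev 2, ev 0 + ev 2, ev 1 + ev 2,
    ev 0 + (ev 1 + ev 2)] ∨ v + ev 3 ∈ [0, ev 0, ev 1, ev 0 + ev 1, ev 2, ev 0 + ev 2, ev 1 + ev 2,
    ev 0 + (ev 1 + ev 2)] := by decide +kernel

theorem d_add : ∀ v w : V, v + w + w = v := by decide +kernel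

omit [Finite G] in
/-- The Steinberg relations give the relators. -/
theorem sat_of_st (X : Fin 4 → Option (Fin 4) → G) (sq : ∀ i j, some i ≠ j → X i j * X i j = 1)
    (st : ∀ k i l j, some k ≠ l → some i ≠ j → some k ≠ j →
      X k l * X i j * X k l = X i j * if l = some i then X k j else 1)
    (br : ∀ i j, i ≠ j → (X i (some j) * X j (some i)) ^ 3 = 1) :
    Sat relH [X 0 (some 2), X 0 (some 3), X 0 none, X 1 (some 2), X 1 (some 3), X 1 none,
      X 2 (some 3), X 2 none, X 3 none, X 0 (some 1), X 3 (some 2), X 2 (some 1)] := by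
  have c1 : ∀ {k i l j}, some k ≠ l → some i ≠ j → some k ≠ j → l ≠ some i →
      X k l * (X i j * (X k l * X i j)) = 1 := fun h1 h2 h3 h4 => by
    rw [← mul_assoc, ← mul_assoc, st _ _ _ _ h1 h2 h3, if_neg h4, mul_one, sq _ _ h2]
  have s2 : ∀ {k i j}, some k ≠ some i → some i ≠ j → some k ≠ j →
      X k (some i) * X i j * X k (some i) = X i j * X k j := fun h1 h2 h3 => by
    rw [st _ _ _ _ h1 h2 h3, if_pos rfl]
  have c2 : ∀ {k i j}, some k ≠ some i → some i ≠ j → some k ≠ j →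
      X k (some i) * (X i j * (X k (some i) * (X i j * X k j))) = 1 := fun {k i j} h1 h2 h3 => by
    rw [← s2 h1 h2 h3]
    calc _ = X k (some i) * (X i j * (X k (some i) * X k (some i)) * X i j) * X k (some i) := by
          group
      _ = 1 := by rw [sq _ _ h1, mul_one, sq _ _ h2, mul_one, sq _ _ h1]
  have c3 : ∀ {k i j}, some k ≠ some i → some i ≠ j → some k ≠ j →
      X i j * (X k (some i) * (X i j * (X k (some i) * X k j))) = 1 := fun {k i j} h1 h2 h3 => by
    calc _ = X i j * (X k (some i) * X i j * X k (some i)) * X k j := by group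
      _ = X i j * X i j * (X k j * X k j) := by rw [s2 h1 h2 h3]; group
      _ = 1 := by rw [sq _ _ h2, sq _ _ h3, mul_one]
  have c4 : ∀ {k i j}, some k ≠ some i → some i ≠ j → some k ≠ j →
      X i j * (X k (some i) * (X i j * (X k j * X k (some i)))) = 1 := fun {k i j} h1 h2 h3 => by
    calc _ = X i j * X k (some i) * (X i j * X k j) * X k (some i) := by group
      _ = X i j * (X k (some i) * X k (some i)) * X i j * (X k (some i) * X k (some i)) := by
          rw [← s2 h1 h2 h3]; group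
      _ = 1 := by rw [sq _ _ h1, mul_one, mul_one, sq _ _ h2]
  have c5 : ∀ {i j}, i ≠ j → X i (some j) * (X j (some i) * (X i (some j) * (X j (some i) *
      (X i (some j) * X j (some i))))) = 1 := fun h => by
    simpa only [pow_succ, pow_zero, one_mul, mul_assoc] using br _ _ h
  have c6 : X 2 (some 1) * (X 3 (some 2) * (X 2 (some 1) * (X 3 (some 2) * (X 2 (some 1) *
      (X 3 (some 2) * (X 2 (some 1) * X 3 (some 2))))))) = 1 := by
    have h := s2 (k := 3) (i := 2) (j := some 1) (by decide) (by decide) (by decide)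
    have h1 : X 2 (some 1) * (X 3 (some 2) * X 2 (some 1) * X 3 (some 2)) = X 3 (some 1) := by
      rw [h, ← mul_assoc, sq _ _ (by decide), one_mul]
    calc _ = X 2 (some 1) * (X 3 (some 2) * X 2 (some 1) * X 3 (some 2)) *
          (X 2 (some 1) * (X 3 (some 2) * X 2 (some 1) * X 3 (some 2))) := by group
      _ = 1 := by rw [h1, sq _ _ (by decide)]
  simp only [relH, relP, relT, relR, exT, exP, exH, sat_append, sat_cons, sat_nil, evalW_cons,
    evalW_nil, nth_zero, nth_succ, mul_one, and_true]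
  refine ⟨⟨⟨?_, ?_⟩, ?_⟩, ?_⟩ <;> (repeat' apply And.intro) <;>
    first
    | exact sq _ _ (by decide)
    | exact c1 (by decide) (by decide) (by decide) (by decide)
    | exact c2 (by decide) (by decide) (by decide)
    | exact c3 (by decide) (by decide) (by decide)
    | exact c4 (by decide) (by decide) (by decide)
    | exact c5 (by decide)
    | exact c6

/-- A frame at the point `A`. -/
structure Fr (S : Set (Subgroup G)) (A : Subgroup G) (β : V → G) (B : Fin 4 → Subgroup G)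
    (x : Fin 4 → Fin 4 → G) : Prop where
  k : K4 S
  mem : A ∈ S
  add : ∀ u v, β (u + v) = β u * β v
  inj : Function.Injective β
  rng : ∀ g, g ∈ A ↔ ∃ v, β v = g
  mx : ∀ j, Mx S A (B j)
  axi : ∀ j v, β v ∈ ax A (B j) ↔ v j = 0
  xm : ∀ i j, x i j ∈ ax (B j) A
  xc : ∀ i j, i ≠ j → ⁅β (ev j), x i j⁆ = β (ev i)

theorem exists_fr (h : K4 S) (hA : A ∈ S) : ∃ β B x, Fr S A β B x := by
  have : Fact (Nat.Prime 2) := ⟨Nat.prime_two⟩
  obtain ⟨φ⟩ := PG.nonempty_mulEquiv_pi_zmod (G := A) (p := 2) (n := 4)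
    ⟨⟨fun a b => Subtype.ext (h.tw.comm hA a.2 b.2)⟩⟩
    (fun a => Subtype.ext (by rw [sq]; exact h.tw.sq A hA _ a.2)) (h.card A hA)
  let β : V → G := fun v => φ.symm (Multiplicative.ofAdd v)
  let f : Fin 4 → A →* Multiplicative (ZMod 2) := fun j =>
    (AddMonoidHom.toMultiplicative (Pi.evalAddMonoidHom (fun _ => ZMod 2) j)).comp φ.toMonoidHom
  have hf : ∀ j, ((f j).ker.map A.subtype).relIndex A = 2 := fun j => by
    rw [relIndex, subgroupOf, comap_map_eq_self_of_injective A.subtype_injective, index_ker,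
      MonoidHom.range_eq_top.2 fun c => ⟨φ.symm (Multiplicative.ofAdd fun _ => c.toAdd), by
        simp [f]⟩]
    simp
  choose B hB hB' using fun j => h.all A hA _ (map_subtype_le _) (hf j)
  have axi : ∀ j v, β v ∈ ax A (B j) ↔ v j = 0 := fun j v => by
    rw [hB', show β v = A.subtype (φ.symm (Multiplicative.ofAdd v)) from rfl,
      mem_map_iff_mem A.subtype_injective, MonoidHom.mem_ker]
    simp [f]
  have hx : ∀ i j, ∃ r ∈ ax (B j) A, i ≠ j → ⁅β (ev j), r⁆ = β (ev i) := fun i j => by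
    by_cases e : i = j
    · exact ⟨1, one_mem _, fun h => absurd e h⟩
    · obtain ⟨r, hr, e'⟩ := (hB j).surj (a := β (ev j)) (x := β (ev i)) (SetLike.coe_mem _)
        (by simp [axi, ev]) (by simp [axi, ev, Ne.symm e])
      exact ⟨r, hr, fun _ => e'⟩
  choose x hx hx' using hx
  exact ⟨β, B, x, h, hA, fun u v => by simp [β, ofAdd_add],
    fun u v e => Multiplicative.ofAdd.injective (φ.symm.injective (Subtype.ext e)),
    fun g => ⟨fun hg => ⟨(φ ⟨g, hg⟩).toAdd, by simp [β]⟩, by rintro ⟨v, rfl⟩; exact SetLike.coe_mem _⟩,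
    hB, axi, hx, hx'⟩

namespace Fr

variable {β : V → G} {D : Fin 4 → Subgroup G} {ξ : Fin 4 → Fin 4 → G} (f : Fr S A β D ξ)
include f

theorem bm (v : V) : β v ∈ A := (f.rng _).2 ⟨v, rfl⟩

theorem zero : β 0 = 1 := by simpa using (f.add 0 0).symm

theorem bsq (v : V) : β v * β v = 1 := f.k.tw.sq A f.mem _ (f.bm v)

theorem xsq (i j : Fin 4) : ξ i j * ξ i j = 1 := f.k.tw.sq _ (f.mx j).right _ (f.xm i j).1

theorem xinv (i j : Fin 4) : (ξ i j)⁻¹ = ξ i j := bas_inv_eq (f.xsq i j)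

theorem cm {i j : Fin 4} (h : i ≠ j) (v : V) : ⁅β v, ξ i j⁆ = β (v j • ev i) := by
  have k : ∀ w : V, w j = 0 → ⁅β w, ξ i j⁆ = 1 := fun w hw =>
    ((f.mx j).commute ((f.axi j w).2 hw) (f.xm i j)).commutator_eq
  rcases d_split j v with h0 | ⟨h1, h2, h3⟩
  · rw [k v h0, h0, zero_smul, f.zero]
  · rw [h1, one_smul, ← h2, f.add, (f.mx j).comm_mul_left (f.bm _) (f.bm _) (f.xm i j), k _ h3,
      mul_one, f.xc i j h]

theorem act {i j : Fin 4} (h : i ≠ j) (v : V) : ξ i j * β v * (ξ i j)⁻¹ = β (tr i j v) := by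
  rw [tr, f.add, ← f.cm h, commutatorElement_def, bas_inv_eq (f.bsq v), ← mul_assoc, ← mul_assoc,
    ← mul_assoc, f.bsq, one_mul]

theorem norm {j k l : Fin 4} (h : k ≠ l) (h' : k ≠ j) : ξ k l ∈ 𝐍[D j] := by
  refine f.k.eps A _ _ (f.mx j) (f.mx l) _ (f.xm k l) (mem_norm_of_cj_le (cj_le_iff.2 ?_))
  intro a ha
  obtain ⟨v, rfl⟩ := (f.rng a).1 ha.1
  rw [f.act h, f.axi]
  exact d_norm j k l v h' ((f.axi j v).1 ha)

theorem stx {i j k l : Fin 4} (h1 : k ≠ l) (h2 : i ≠ j) (h3 : k ≠ j) :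
    ξ k l * ξ i j * ξ k l = ξ i j * if l = i then ξ k j else 1 := by
  have m1 : ξ k l * ξ i j * (ξ k l)⁻¹ ∈ ax (D j) A :=
    mem_ax.2 ⟨conj_mem_of_norm (f.norm h1 h3) (f.xm i j).1, mul_mem (mul_mem (ax_le_norm (f.xm k l))
      (ax_le_norm (f.xm i j))) (inv_mem (ax_le_norm (f.xm k l)))⟩
  have m2 : (if l = i then ξ k j else 1) ∈ ax (D j) A := by
    split_ifs
    exacts [f.xm k j, one_mem _]
  nth_rw 2 [← f.xinv k l]
  refine (f.mx j).inj (f.bm (ev j)) (by simp [f.axi, ev]) m1 (mul_mem (f.xm i j) m2) ?_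
  have e1 : β (ev j) = ξ k l * β (tr k l (ev j)) * (ξ k l)⁻¹ := by
    rw [← f.act h1, f.xinv, ← mul_assoc, ← mul_assoc, f.xsq, one_mul, mul_assoc, f.xsq, mul_one]
  rw [(f.mx j).comm_mul_right (f.bm _) (f.xm i j) m2, f.xc i j h2]
  nth_rw 1 [e1]
  rw [← conjugate_commutatorElement, f.cm h2, f.act h1, d_st i j k l h2 h1 h3, f.add]
  split_ifs
  · rw [f.xc k j h3]
  · rw [f.zero, commutatorElement_one_right]

theorem braid {i j : Fin 4} (h : i ≠ j) : (ξ i j * ξ j i) ^ 3 = 1 := by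
  have a1 : ∀ v, ξ i j * ξ j i * β v * (ξ i j * ξ j i)⁻¹ = β (tr i j (tr j i v)) := fun v => by
    rw [← f.act h, ← f.act h.symm]; group
  obtain ⟨u, hu⟩ := (f.rng _).1 (f.k.cent A f.mem (show (ξ i j * ξ j i) ^ 3 ∈ 𝐂[A] from
    mem_cent.2 fun a ha => by
      obtain ⟨v, rfl⟩ := (f.rng a).1 ha
      refine (mul_inv_eq_iff_eq_mul.1 ?_).symm
      conv_rhs => rw [← d_cube i j h v, ← a1, ← a1, ← a1]
      simp only [pow_succ, pow_zero]
      group))
  have h0 : u = 0 := d_fix i j h u (fun k h1 h2 => (f.axi k u).1 (mem_ax.2 ⟨f.bm u, by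
    rw [hu]; exact pow_mem (mul_mem (f.norm h h1) (f.norm h.symm h2)) 3⟩))
    (f.inj (by rw [← a1, hu]; generalize ξ i j * ξ j i = w; group))
  rw [← hu, h0, f.zero]

theorem sat : Sat relH [ξ 0 2, ξ 0 3, β (ev 0), ξ 1 2, ξ 1 3, β (ev 1), ξ 2 3, β (ev 2), β (ev 3),
    ξ 0 1, ξ 3 2, ξ 2 1] := by
  refine sat_of_st (fun i o => o.elim (β (ev i)) (ξ i)) ?_ ?_ fun i j h => f.braid h
  · rintro i (_ | j) -
    exacts [f.bsq _, f.xsq i j]
  · rintro k i (_ | l) (_ | j) h1 h2 h3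
    · simp only [Option.elim, reduceCtorEq, if_false, mul_one]
      rw [(f.k.tw.comm f.mem (f.bm _) (f.bm _)).eq, mul_assoc, f.bsq, mul_one]
    · simp only [Option.elim, reduceCtorEq, if_false, mul_one]
      rw [((f.mx j).commute ((f.axi j _).2 (by simpa [ev, eq_comm] using h3)) (f.xm i j)).eq,
        mul_assoc, f.bsq, mul_one]
    · simp only [Option.elim, Option.some.injEq]
      nth_rw 2 [← f.xinv k l]
      rw [f.act (by simpa using h1), d_ev, f.add]
      split_ifs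
      exacts [rfl, by rw [f.zero]]
    · simp only [Option.elim, Option.some.injEq]
      exact f.stx (by simpa using h1) (by simpa using h2) (by simpa using h3)

theorem ne_one {v : V} (h : v ≠ 0) : β v ≠ 1 := fun e => h (f.inj (e.trans f.zero.symm))

theorem card_le : Nat.card (centralizer ({β (ev 0)} : Set G)) ≤ 21504 := by
  classical
  have := Fintype.ofFinite G
  have hn : ∀ g ∈ centralizer ({β (ev 0)} : Set G), g ∈ 𝐍[A] := fun g hg =>
    f.k.tw.mem_norm_of_commute f.mem (f.bm _) (f.ne_one (by decide)) (mem_cen.1 hg)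
  choose m hm using fun (g : centralizer ({β (ev 0)} : Set G)) v =>
    (f.rng _).1 (conj_mem_of_norm (hn g g.2) (f.bm v))
  have m0 : ∀ g, m g 0 = 0 := fun g => f.inj (by rw [hm, f.zero]; simp)
  have m1 : ∀ g, m g (ev 0) = ev 0 := fun g => f.inj (by rw [hm, mem_cen.1 g.2]; simp)
  have ma : ∀ g u v, m g (u + v) = m g u + m g v := fun g u v =>
    f.inj (by rw [f.add, hm, hm, hm, f.add]; group)
  have mi : ∀ g u v, m g u = m g v ↔ u = v := fun g u v => ⟨fun e => f.inj (by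
    simpa [hm] using congrArg β e), fun e => e ▸ rfl⟩
  have hc : Nat.card A = 16 := f.k.card A f.mem
  rw [Nat.card_eq_fintype_card, ← Finset.card_univ, show 21504 = 16 * 1344 from rfl, ← d_card]
  refine Finset.card_le_mul_card_image_of_maps_to
    (f := fun g => (m g (ev 1), m g (ev 2), m g (ev 3))) (fun g _ => ?_) 16 fun p _ => ?_
  · rw [Finset.mem_filter]
    refine ⟨Finset.mem_univ _, ?_⟩
    have := d_ind
    simp only [Ind, List.mem_cons, List.not_mem_nil, or_false] at this ⊢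
    rw [← m1 g, ← m0 g]
    simpa only [← ma, mi] using this
  · rcases Finset.eq_empty_or_nonempty (Finset.univ.filter fun g =>
      (m g (ev 1), m g (ev 2), m g (ev 3)) = p) with e | ⟨g₀, h0⟩
    · simp [e]
    rw [← hc, Nat.card_eq_fintype_card, ← Finset.card_univ]
    have key : ∀ g ∈ Finset.univ.filter fun g => (m g (ev 1), m g (ev 2), m g (ev 3)) = p,
        (g₀ : G)⁻¹ * g ∈ A := fun g hg => f.k.cent A f.mem (mem_cent.2 fun a ha => by
      obtain ⟨v, rfl⟩ := (f.rng a).1 ha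
      have e := (Finset.mem_filter.1 hg).2.trans (Finset.mem_filter.1 h0).2.symm
      simp only [Prod.mk.injEq] at e
      have e1 : ∀ v ∈ [0, ev 0, ev 1, ev 0 + ev 1, ev 2, ev 0 + ev 2, ev 1 + ev 2,
          ev 0 + (ev 1 + ev 2)], m g v = m g₀ v := by simp [ma, m0, m1, e.1, e.2.1]
      have e2 : m g v = m g₀ v := (d_span v).elim (e1 v) fun h => by
        rw [← d_add v (ev 3), ma g _ (ev 3), ma g₀ _ (ev 3), e1 _ h, e.2.2]
      have e3 := congrArg β e2
      rw [hm, hm] at e3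
      calc _ = (g₀ : G)⁻¹ * ((g₀ : G) * β v * (g₀ : G)⁻¹) * g := by group
        _ = _ := by rw [← e3]; group)
    refine Finset.card_le_card_of_injOn (fun g => if h : (g₀ : G)⁻¹ * g ∈ A then ⟨_, h⟩ else 1)
      (fun _ _ => Finset.mem_univ _) fun g hg g' hg' e => ?_
    simp only [dif_pos (key g hg), dif_pos (key g' hg'), Subtype.mk.injEq, mul_right_inj] at e
    exact Subtype.ext e

theorem conj_z (ha : a ∈ A) (h1 : a ≠ 1) : IsConj (β (ev 0)) a := by
  obtain ⟨v, rfl⟩ := (f.rng a).1 ha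
  obtain ⟨j, h2, h3, h4⟩ := d_ne v fun e => h1 (by rw [e, f.zero])
  obtain ⟨g, -, -, e⟩ := (f.mx 0).conj_out (f.bm (ev 0)) (by simp [f.axi, ev]) (f.bm _)
    (by rwa [f.axi])
  obtain ⟨g', -, -, e'⟩ := (f.mx j).conj_out (f.bm _) (by rwa [f.axi]) (f.bm v) (by rwa [f.axi])
  exact (isConj_iff.2 ⟨g, e⟩).trans (isConj_iff.2 ⟨g', e'⟩)

theorem x_ne {i j : Fin 4} (h : i ≠ j) : ξ i j ≠ 1 := fun e =>
  f.ne_one (v := ev i) (fun e => by simpa [ev] using congrFun e i)
    (by rw [← f.xc i j h, e, commutatorElement_one_right])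

theorem conj_x : IsConj (β (ev 0)) (ξ 0 3) := by
  obtain ⟨g, hg⟩ := f.k.tw.tr A f.mem _ (f.mx 3).right
  have h1 : g⁻¹ * ξ 0 3 * g ∈ A := mem_cj.1 (hg ▸ (f.xm 0 3).1)
  exact (f.conj_z h1 fun e => f.x_ne (i := 0) (j := 3) (by decide) (by
    rw [show ξ 0 3 = g * (g⁻¹ * ξ 0 3 * g) * g⁻¹ by group, e, mul_one, mul_inv_cancel])).trans
    (isConj_iff.2 ⟨g, by group⟩)

theorem not_conj : ¬ IsConj (β (ev 0)) (β (ev 1) * ξ 2 3) := fun h => by
  obtain ⟨g, hg⟩ := isConj_iff.1 h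
  have tw := f.k.tw
  have ad := (f.mx 3).toAdj
  have x1 := f.x_ne (i := 2) (j := 3) (by decide)
  have hd : β (ev 1) * ξ 2 3 ∈ cj(g, A) := hg ▸ conj_mem_cj (f.bm _)
  have hC := tw.conj A f.mem g
  generalize cj(g, A) = C at hd hC
  have d1 : β (ev 1) * ξ 2 3 ≠ 1 := fun e => f.ne_one (v := ev 0) (by decide) (by
    rw [e] at hg; simpa using hg)
  have dn : β (ev 1) * ξ 2 3 ∈ 𝐍[A] := mul_mem (le_normalizer (f.bm _)) (f.xm 2 3).2
  have ne : C ≠ A := fun e => x1 (tw.eq_one f.mem ad.right ad.ne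
    ((A.mul_mem_cancel_left (f.bm _)).1 (e ▸ hd)) (f.xm 2 3).1)
  have ac := (tw.adj hC f.mem ne hd d1 dn).symm
  have e1 : ax A C = ax A (D 3) := by
    ext a
    rw [ac.mem_ax_iff ⟨hd, dn⟩ d1, ad.mem_ax_iff (f.xm 2 3) x1]
    refine and_congr_right fun ha => ?_
    have c := tw.comm f.mem ha (f.bm (ev 1))
    exact ⟨fun h => by simpa using c.inv_right.mul_right h, fun h => c.mul_right h⟩
  obtain ⟨a, ha, e2⟩ := f.k.uq.thin A _ (f.mx 3) A ad.left_pt _ ad.right_pt C
    (f.k.uq.uniq A _ C (f.mx 3) ac e1 ▸ ac.right_pt) ad.ne.symm ne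
  obtain ⟨v, rfl⟩ := (f.rng a).1 ha
  rw [← e2, mem_cj, bas_inv_eq (f.bsq v)] at hd
  have e3 : β v * (β (ev 1) * ξ 2 3) * β v = β (ev 1 + v 3 • ev 2) * ξ 2 3 := by
    rw [f.add, ← f.cm (by decide), commutatorElement_def, bas_inv_eq (f.bsq v), ← mul_assoc,
      (tw.comm f.mem (f.bm v) (f.bm (ev 1))).eq]
    group
  rw [e3, (D 3).mul_mem_cancel_right (f.xm 2 3).1] at hd
  exact f.ne_one (d_end v) (tw.eq_one f.mem ad.right ad.ne (f.bm _) hd)

end Fr

end V5

open V5 Cfsg.Agent.Rec Cfsg.Agent.Rec.L52 Cfsg.Agent.Spor in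
theorem K4.out [IsSimpleGroup G] (h : K4 S) (hA : A ∈ S) : Out G := by
  obtain ⟨β, D, ξ, f⟩ := exists_fr h hA
  obtain ⟨C, hC⟩ := codH_of_ne rfl f.sat (f.ne_one (by decide))
  let s : StH G := ⟨_, _, _, _, _, _, _, _, _, _, _, _, C, hC, (eq_of_le_of_card_ge
    (fun y hy => mem_cen.2 (z_central hC y hy)) (f.card_le.trans (genHf hC).2.ge)).symm⟩
  obtain ⟨t1, t2, g, hg⟩ := s.exists_stG f.conj_x (f.conj_z (f.bm _) (f.ne_one (by decide)))
  have hG : Gen G t1 t2 := ⟨_, rfl, g.sat, g.G0_eq_top⟩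
  cases t2
  · cases t1
    · obtain ⟨e⟩ := hG.equiv_SL5
      exact Or.inl ⟨ZMod 2, inferInstance, inferInstance, inferInstance, 5, by norm_num,
        ⟨e.trans (MS.io.trans (Cl.pslEquivGLOfCardTwo MS.two).symm)⟩⟩
    · exact .inr (.inr (.inr (.inr (.inr (.inr hG.equiv_M24)))))
  · have := g.fz_O.isConj
    rw [hg] at this
    exact absurd this f.not_conj

end Cfsg.Agent.WTI
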